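import Cfsg.Agent.H13.M22.Ten
import Cfsg.Agent.H840.L34.Kill
import Cfsg.Agent.H933.O10.Base

/-!
# `M22` in degree ten, `p` odd: self-dual only for `p = 7` (helper830)
-/

set_option autoImplicit false
set_option linter.unusedSectionVars false
set_option linter.constructorNameAsVariable false

namespace Cfsg.Agent.H830.M22

open Cfsg Cfsg.Geo Cfsg.Agent.H915.LD Cfsg.Agent.H840.L34 Cfsg.Agent.Lib.FieldFour
open scoped MatrixGroups Matrix

universe u v

section

variable {ι : Type} [Fintype ι] [DecidableEq ι] {F : Type u} [Field F] {N : Subgroup (GL ι F)}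

/-- the cover when `-1 ∈ N` -/
def cvA (φ : N →* L) (hs : Function.Surjective φ) (hn : Fintype.card ι = 10)
    (hk : ∀ g, φ g = 1 ↔ g = 1 ∨ ((g : GL ι F) : Matrix ι ι F) = -1) (h2 : (2 : F) ≠ 0) {z : N}
    (hz : ((z : GL ι F) : Matrix ι ι F) = -1) : Cv N where
  π := φ
  z := z
  surj := hs
  zc g := by
    apply Subtype.ext; apply Units.ext
    change ((z : GL ι F) : Matrix ι ι F) * _ = _ * ((z : GL ι F) : Matrix ι ι F)
    rw [hz, neg_mul, mul_neg, one_mul, mul_one]
  zz := by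
    apply Subtype.ext; apply Units.ext
    change ((z : GL ι F) : Matrix ι ι F) * ((z : GL ι F) : Matrix ι ι F) = 1
    rw [hz, neg_mul, mul_neg, one_mul, neg_neg]
  z1 := by
    intro h
    rw [h] at hz
    have hne : Nonempty ι := by rw [← Fintype.card_pos_iff, hn]; norm_num
    obtain ⟨i⟩ := hne
    have h3 : (1 : Matrix ι ι F) i i = (-1 : Matrix ι ι F) i i := congrFun (congrFun hz i) i
    rw [Matrix.neg_apply, Matrix.one_apply_eq] at h3
    apply h2
    linear_combination h3
  ker g := by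
    rw [hk]
    constructor
    · rintro (h | h)
      · exact Or.inl h
      · right
        apply Subtype.ext; apply Units.ext
        rw [h, hz]
    · rintro (rfl | rfl)
      · exact Or.inl rfl
      · exact Or.inr hz

/-- the cover when `-1 ∉ N` -/
def cvB (φ : N →* L) (hs : Function.Surjective φ)
    (hk : ∀ g, φ g = 1 ↔ g = 1 ∨ ((g : GL ι F) : Matrix ι ι F) = -1)
    (hz : ∀ z : N, ((z : GL ι F) : Matrix ι ι F) ≠ -1) : Cv (N × ℤˣ) where
  π := φ.comp (MonoidHom.fst N ℤˣ)
  z := (1, -1)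
  surj l := by
    obtain ⟨p, hp⟩ := hs l
    exact ⟨(p, 1), hp⟩
  zc g := by
    apply Prod.ext
    · change 1 * g.1 = g.1 * 1
      rw [one_mul, mul_one]
    · exact mul_comm _ _
  zz := by
    apply Prod.ext
    · exact one_mul 1
    · rfl
  z1 := by
    intro h
    have h1 : (-1 : ℤˣ) = 1 := congrArg Prod.snd h
    exact absurd h1 (by decide)
  ker g := by
    rw [MonoidHom.comp_apply, MonoidHom.coe_fst, hk]
    constructor
    · rintro (h | h)
      · rcases Int.units_eq_one_or g.2 with h1 | h1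
        · exact Or.inl (Prod.ext h h1)
        · exact Or.inr (Prod.ext h h1)
      · exact absurd h (hz _)
    · rintro (rfl | rfl)
      · exact Or.inl rfl
      · exact Or.inl rfl

/-- covers of `PSL_3(4)` of degree ten contain `-1` -/
theorem neg_one_mem' (φ : N →* L) (hs : Function.Surjective φ) (hn : Fintype.card ι = 10)
    (hk : ∀ g, φ g = 1 ↔ g = 1 ∨ ((g : GL ι F) : Matrix ι ι F) = -1) (h2 : (2 : F) ≠ 0) :
    ∃ z : N, ((z : GL ι F) : Matrix ι ι F) = -1 := by
  by_contra hcon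
  push Not at hcon
  obtain ⟨α, c, h1⟩ := exists_good (cvB φ hs hk hcon)
  have R : RH ((cvB φ hs hk hcon).comp α) (rp2 N) := {
    z := by
      apply LinearMap.ext
      intro v
      change (((-1 : ℤˣ) : ℤ) : F) • (rp N 1) v = -v
      rw [map_one, Units.val_neg, Units.val_one, Int.cast_neg, Int.cast_one, neg_one_smul]
      rfl
    two := h2
    dim := by rw [Module.finrank_fintype_fun_eq_card, hn]
    faith := by
      rintro ⟨p, ε⟩ hg
      have h3 : ∀ v, ((ε : ℤ) : F) • (((p : GL ι F) : Matrix ι ι F) *ᵥ v) = v := fun v => LinearMap.congr_fun hg v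
      rcases Int.units_eq_one_or ε with h4 | h4
      · subst h4
        have h5 : p = 1 := by
          apply Subtype.ext; apply ext_vec
          intro v
          have := h3 v
          rw [Units.val_one, Int.cast_one, one_smul] at this
          rw [this, Subgroup.coe_one, Units.val_one, Matrix.one_mulVec]
        rw [h5]; rfl
      · subst h4
        exfalso
        apply hcon p
        apply Matrix.ext_of_mulVec_single
        intro i
        have := h3 (Pi.single i 1)
        rw [Units.val_neg, Units.val_one, Int.cast_neg, Int.cast_one, neg_one_smul] at this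
        rw [Matrix.neg_mulVec, Matrix.one_mulVec, ← neg_eq_iff_eq_neg, this] }
  have h3 := R.not_triv c h1
  have h4 := e_one c (MonoidHom.snd N ℤˣ) F4.w
  rw [h3] at h4
  revert h4
  change ¬ ((-1 : ℤˣ) = 1)
  decide

/-- **a linear group of degree ten over `PSL_3(4)` with scalars `±1` and self-dual traces has characteristic seven** -/
theorem seven_of (φ : N →* L) (hs : Function.Surjective φ) (hn : Fintype.card ι = 10)
    (hk : ∀ g, φ g = 1 ↔ g = 1 ∨ ((g : GL ι F) : Matrix ι ι F) = -1) (h2 : (2 : F) ≠ 0)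
    (hsd : ∀ g ∈ N, tr g⁻¹ = tr g) : (7 : F) = 0 := by
  by_contra h7
  obtain ⟨z, hz⟩ := neg_one_mem' φ hs hn hk h2
  obtain ⟨α, c, h1⟩ := exists_good (cvA φ hs hn hk h2 hz)
  have hzC : ((((cvA φ hs hn hk h2 hz).comp α).z : GL ι F) : Matrix ι ι F) = -1 := hz
  have D : Dt ((cvA φ hs hn hk h2 hz).comp α) c (rp N) := ⟨rh _ hzC h2 hn, h1⟩
  obtain ⟨γ, hγ⟩ := c.exists_conj wa_g
  obtain ⟨δ, hδ⟩ := c.exists_conj wb_g
  have ha : RH.IsA (rp N) ((cvA φ hs hn hk h2 hz).comp α) (γ * c.X23 1 * γ⁻¹) :=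
    ⟨hγ, by rw [RH.trace_conj]; exact D.R.trace_23 c h1 one_ne_zero⟩
  have hb : RH.IsB (rp N) ((cvA φ hs hn hk h2 hz).comp α) (δ * c.X23 1 * δ⁻¹) :=
    ⟨hδ, by rw [RH.trace_conj]; exact D.R.trace_23 c h1 one_ne_zero⟩
  generalize γ * c.X23 1 * γ⁻¹ = a at ha
  generalize δ * c.X23 1 * δ⁻¹ = b at hb
  generalize hCC : (cvA φ hs hn hk h2 hz).comp α = CC at *
  obtain ⟨v0, hv, h0⟩ : ∃ v, v ∈ W (RH.Ta (rp N) c) (0, 0) ∧ v ≠ 0 := by
    obtain ⟨u, hu, h0⟩ := D.R.exists_u c h1
    exact ⟨_, hu ⟨(0, 0), by decide⟩, h0 _⟩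
  apply D.trace_ne ha hb hv h0 h7
  rw [tr_rp, tr_rp]
  have e1 : tr ((b * a * c.X12 1 : N) : GL ι F) = tr ((b * a * c.X23 1 : N) : GL ι F) := by
    have h3 : c.X12 1 = (b * a) * c.X23 1 * (b * a)⁻¹ := by
      have h4 := c.conj_a_23 ha.π 1
      have h5 := c.conj_b_13 hb.π 1
      rw [← h5, ← h4]; group
    have h6 : (b * a * c.X12 1 : N) = (b * a) * (b * a * c.X23 1) * (b * a)⁻¹ := by rw [h3]; group
    rw [h6]
    exact tr_conj _ _
  have e2 : tr ((b * a * c.X23 1 : N) : GL ι F) = tr ((c.X23 1 * (b * a) : N) : GL ι F) :=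
    tr_mul_comm ((b * a : N) : GL ι F) ((c.X23 1 : N) : GL ι F)
  have e3 : (c.X23 1 * (b * a) : N) = (a * b * c.X23 1)⁻¹ := by
    rw [mul_inv_rev, mul_inv_rev, c.f23.inv, inv_eq_of_mul_eq_one_right (Conf.sq_a ha.π),
      inv_eq_of_mul_eq_one_right (Conf.sq_b hb.π)]
  rw [e1, e2, e3]
  exact (hsd _ (a * b * c.X23 1).2).symm

end

section main

open Cfsg.Agent.H13.M22 Cfsg.Agent.H906.T14 Cfsg.Agent.SporadicA.GolayBase

variable {ι : Type} [Fintype ι] [DecidableEq ι] {F : Type u} [Field F] {P : Subgroup (GL ι F)}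

/-- **`M22` in degree ten, `p` odd: self-dual only for `p = 7`** -/
theorem seven_of_sd [Finite F] (hC : Core P) (e : Soc P ≃* Spor.M22) (hn : Fintype.card ι = 10) (h2 : (2 : F) ≠ 0)
    (hsd : SD P) : (7 : F) = 0 := by
  classical
  have hz2 := sq_ker hC e hn
  have iK : Fintype (GaloisField 2 2) := Fintype.ofFinite _
  have hK : Fintype.card (GaloisField 2 2) = 4 := by
    rw [← Nat.card_eq_fintype_card, GaloisField.card 2 2 (by norm_num)]
    norm_num
  obtain ⟨a1, a2, -⟩ := pt1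
  obtain ⟨f⟩ := st_iso a1 a2 (GaloisField 2 2) hK
  have hne := hC.nonempty
  refine seven_of (N := subG e (st (pt 1))) (phi hK (subIso e (st (pt 1)) f)) (phi_surj hK _) hn ?_ h2
    (fun g hg => hsd g (subG_le e _ hg))
  intro g
  rw [phi_ker]
  constructor
  · intro hg
    have h1 : (g : GL ι F) ∈ scalars ι F := by
      rw [ker_comp, Subgroup.mem_subgroupOf] at hg
      exact hg
    have h3 : (⟨g.1, subG_le e _ g.2⟩ : P) ∈ (phT e).ker := by
      rw [phT_ker e, Subgroup.mem_subgroupOf]; exact h1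
    have h4 := hz2 _ h3
    obtain ⟨c, hc⟩ := (mem_scalars_iff _).1 h1
    have h5 : (((⟨g.1, subG_le e _ g.2⟩ ^ 2 : P) : GL ι F) : Matrix ι ι F) = ((c : F) ^ 2) • 1 := by
      rw [Subgroup.coe_pow, Units.val_pow_eq_pow_val]
      change ((g : GL ι F) : Matrix ι ι F) ^ 2 = _
      rw [hc, smul_pow, one_pow]
    rw [h4] at h5
    have h6 : ((c : F) ^ 2 : F) = 1 := by
      apply smul_ext (ι := ι)
      rw [← h5, one_smul]
      rfl
    have h7 : ((c : F) - 1) * (c + 1) = 0 := by linear_combination h6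
    rcases mul_eq_zero.1 h7 with h8 | h8
    · left
      apply Subtype.ext
      apply Units.ext
      rw [hc, sub_eq_zero.1 h8, one_smul]
      rfl
    · right
      rw [hc, eq_neg_of_add_eq_zero_left h8, neg_one_smul]
  · intro hg
    rw [ker_comp, Subgroup.mem_subgroupOf, mem_scalars_iff]
    rcases hg with rfl | hg
    · exact ⟨1, by rw [Units.val_one, one_smul]; rfl⟩
    · exact ⟨-1, by rw [hg, Units.val_neg, Units.val_one, neg_one_smul]⟩

/-- **the row `M22` of `S5848` and `S5851`, `p` odd** -/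
theorem m22_odd [Fintype F] {p : ℕ} {Q : (Fin 10 → F) → F} {H P : Subgroup (GL (Fin 10) F)} (h : H933.O10.Cx p Q H P)
    (hp : p ≠ 2) (hT : Spor.IsoM22 (Soc P)) : p = 7 ∧ Fintype.card F = 7 := by
  have hf := Fact.mk h.prime
  have hc := h.char
  obtain ⟨e⟩ := hT
  have h2 : (2 : F) ≠ 0 := by
    intro h0
    have h1 : p ∣ 2 := (CharP.cast_eq_zero_iff F p 2).1 (by exact_mod_cast h0)
    exact hp ((Nat.prime_dvd_prime_iff_eq h.prime Nat.prime_two).1 h1)
  have h7 := seven_of_sd h.core e (Fintype.card_fin 10) h2 h.sd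
  have h8 : p = 7 := by
    have h1 : p ∣ 7 := (CharP.cast_eq_zero_iff F p 7).1 (by exact_mod_cast h7)
    exact (Nat.prime_dvd_prime_iff_eq h.prime (by norm_num)).1 h1
  subst h8
  exact ⟨rfl, h.core.card_eq 7 ((ten 7 h.core (by norm_num) (Fintype.card_fin 10) e).2.2 rfl).2⟩

end main

end Cfsg.Agent.H830.M22
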